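import Mathlib

/-!
# Principal radical ideals I: DVR primes of a Noetherian normal domain, valuations, divisibility
-/

set_option autoImplicit false

namespace Groth.Agent.Helper6.PrinRad

open IsLocalRing

universe u

section L1

variable (T : Type u) [CommRing T] [IsDomain T] [IsLocalRing T] [IsNoetherianRing T]
  [IsIntegrallyClosed T]

/-- adapted from Mathlib's `maximalIdeal_isPrincipal_of_isDedekindDomain` -/
theorem principal_of_colon (a b : T) (ha₁ : a ∈ maximalIdeal T) (ha₂ : a ≠ 0)
    (hb₂ : b ∉ Ideal.span {a}) (hb₃ : ∀ m ∈ maximalIdeal T, ∃ k : T, k * a = b * m) :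
    (maximalIdeal T).IsPrincipal := by
  classical
  have hb₄ : b ≠ 0 := by rintro rfl; apply hb₂; exact zero_mem _
  let K := FractionRing T
  let x : K := algebraMap T K b / algebraMap T K a
  let M := Submodule.map (Algebra.linearMap T K) (maximalIdeal T)
  have ha₃ : algebraMap T K a ≠ 0 := IsFractionRing.to_map_eq_zero_iff.not.mpr ha₂
  by_cases hx : ∀ y ∈ M, x * y ∈ M
  · have := isIntegral_of_smul_mem_submodule M ?_ ?_ x hx
    · obtain ⟨y, e⟩ := IsIntegrallyClosed.algebraMap_eq_of_integral this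
      refine (hb₂ (Ideal.mem_span_singleton'.mpr ⟨y, ?_⟩)).elim
      apply IsFractionRing.injective T K
      rw [map_mul, e, div_mul_cancel₀ _ ha₃]
    · rw [Submodule.ne_bot_iff]; refine ⟨_, ⟨a, ha₁, rfl⟩, ?_⟩
      exact (IsFractionRing.to_map_eq_zero_iff (K := K)).not.mpr ha₂
    · apply Submodule.FG.map; exact IsNoetherian.noetherian _
  · have :
        (M.map (DistribSMul.toLinearMap T K x)).comap (Algebra.linearMap T K) = ⊤ := by
      contrapose! hx with h
      rintro m' ⟨m, hm, rfl : algebraMap T K m = m'⟩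
      obtain ⟨k, hk⟩ := hb₃ m hm
      have hk' : x * algebraMap T K m = algebraMap T K k := by
        rw [← mul_div_right_comm, ← map_mul, ← hk, map_mul, mul_div_cancel_right₀ _ ha₃]
      exact ⟨k, le_maximalIdeal h ⟨_, ⟨_, hm, rfl⟩, hk'⟩, hk'.symm⟩
    obtain ⟨y, hy₁, hy₂⟩ : ∃ y ∈ maximalIdeal T, b * y = a := by
      rw [Ideal.eq_top_iff_one, Submodule.mem_comap] at this
      obtain ⟨_, ⟨y, hy, rfl⟩, hy' : x * algebraMap T K y = algebraMap T K 1⟩ := this
      rw [map_one, ← mul_div_right_comm, div_eq_one_iff_eq ha₃, ← map_mul] at hy'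
      exact ⟨y, hy, IsFractionRing.injective T K hy'⟩
    refine ⟨⟨y, ?_⟩⟩
    apply le_antisymm
    · intro m hm; obtain ⟨k, hk⟩ := hb₃ m hm; rw [← hy₂, mul_comm, mul_assoc] at hk
      rw [← mul_left_cancel₀ hb₄ hk, mul_comm]; exact Ideal.mem_span_singleton'.mpr ⟨_, rfl⟩
    · rwa [Submodule.span_le, Set.singleton_subset_iff]

end L1

section Dvr

variable {R : Type u} [CommRing R] [IsDomain R]

theorem algebraMap_injective (P : Ideal R) [P.IsPrime] :
    Function.Injective (algebraMap R (Localization.AtPrime P)) :=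
  IsLocalization.injective (Localization.AtPrime P) (Ideal.primeCompl_le_nonZeroDivisors P)

omit [IsDomain R] in
lemma smul_mk_eq_zero_iff (f r y : R) :
    r • (Ideal.Quotient.mk (Ideal.span {f}) y) = 0 ↔ f ∣ r * y := by
  rw [← Ideal.mem_span_singleton, ← Ideal.Quotient.eq_zero_iff_mem, map_mul, Algebra.smul_def]
  rfl

variable [IsNoetherianRing R] [IsIntegrallyClosed R]

theorem dvr_of_colon (P : Ideal R) [hP : P.IsPrime] (f y : R) (hf : f ≠ 0)
    (hcol : ∀ r : R, r ∈ P ↔ f ∣ r * y) :
    IsDiscreteValuationRing (Localization.AtPrime P) := by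
  have hfP : f ∈ P := (hcol f).mpr ⟨y, rfl⟩
  have hinj := algebraMap_injective P
  haveI : IsNoetherianRing (Localization.AtPrime P) :=
    IsLocalization.isNoetherianRing P.primeCompl _ inferInstance
  haveI : IsIntegrallyClosed (Localization.AtPrime P) :=
    isIntegrallyClosed_of_isLocalization (Localization.AtPrime P) P.primeCompl
      (Ideal.primeCompl_le_nonZeroDivisors P)
  have ha₂ : algebraMap R (Localization.AtPrime P) f ≠ 0 :=
    fun h => hf (hinj (by rw [h, map_zero]))
  have ha₁ : algebraMap R (Localization.AtPrime P) f ∈ maximalIdeal (Localization.AtPrime P) :=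
    (IsLocalization.AtPrime.to_map_mem_maximal_iff _ P f).mpr hfP
  have hb₂ : algebraMap R (Localization.AtPrime P) y ∉
      Ideal.span {algebraMap R (Localization.AtPrime P) f} := by
    intro h
    rw [Ideal.mem_span_singleton] at h
    obtain ⟨z, hz⟩ := h
    obtain ⟨c, s, rfl⟩ := IsLocalization.exists_mk'_eq P.primeCompl z
    have h1 : algebraMap R (Localization.AtPrime P) (y * s) =
        algebraMap R (Localization.AtPrime P) (f * c) := by
      rw [map_mul, map_mul, hz, mul_assoc, IsLocalization.mk'_spec]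
    have h2 := hinj h1
    exact s.2 ((hcol s).mpr ⟨c, by rw [mul_comm, h2]⟩)
  have hb₃ : ∀ m ∈ maximalIdeal (Localization.AtPrime P),
      ∃ k, k * algebraMap R (Localization.AtPrime P) f =
        algebraMap R (Localization.AtPrime P) y * m := by
    intro m hm
    obtain ⟨r, s, rfl⟩ := IsLocalization.exists_mk'_eq P.primeCompl m
    have hr : r ∈ P := (IsLocalization.AtPrime.mk'_mem_maximal_iff _ P r s).mp hm
    obtain ⟨c, hc⟩ := (hcol r).mp hr
    refine ⟨IsLocalization.mk' _ c s, ?_⟩
    rw [mul_comm, IsLocalization.mul_mk'_eq_mk'_of_mul, IsLocalization.mul_mk'_eq_mk'_of_mul,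
      ← hc, mul_comm]
  have hprinc := principal_of_colon (Localization.AtPrime P) _ _ ha₁ ha₂ hb₂ hb₃
  have hnf : ¬ IsField (Localization.AtPrime P) := by
    intro h
    have h0 := isField_iff_maximalIdeal_eq.mp h
    rw [h0] at ha₁
    exact ha₂ ((Submodule.mem_bot _).mp ha₁)
  exact ((IsDiscreteValuationRing.TFAE (Localization.AtPrime P) hnf).out 4 0).mp hprinc

theorem dvr_of_ass {f : R} (hf : f ≠ 0) (P : Ideal R) [P.IsPrime]
    (hP : IsAssociatedPrime P (R ⧸ Ideal.span {f})) :
    IsDiscreteValuationRing (Localization.AtPrime P) := by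
  obtain ⟨-, ybar, hy⟩ := isAssociatedPrime_iff.mp hP
  obtain ⟨y, rfl⟩ := Ideal.Quotient.mk_surjective ybar
  refine dvr_of_colon P f y hf (fun r => ?_)
  rw [hy, Submodule.mem_colon_singleton, Submodule.mem_bot, smul_mk_eq_zero_iff]

theorem dvr_of_minimal {f : R} (hf : f ≠ 0) (P : Ideal R) [P.IsPrime]
    (hP : P ∈ (Ideal.span {f}).minimalPrimes) :
    IsDiscreteValuationRing (Localization.AtPrime P) := by
  apply dvr_of_ass hf P
  have h := Module.associatedPrimes.minimalPrimes_annihilator_subset_associatedPrimes R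
    (R ⧸ Ideal.span {f})
  rw [Ideal.annihilator_quotient] at h
  exact h hP

omit [IsNoetherianRing R] [IsIntegrallyClosed R] in
theorem eq_of_le_dvr (P : Ideal R) [P.IsPrime]
    [IsDiscreteValuationRing (Localization.AtPrime P)] (Q : Ideal R) [hQ : Q.IsPrime]
    (hQ0 : Q ≠ ⊥) (hQP : Q ≤ P) : Q = P := by
  have hdisj : Disjoint (P.primeCompl : Set R) (Q : Set R) := by
    rw [Set.disjoint_left]
    intro a ha haQ
    exact ha (hQP haQ)
  haveI hprime : (Ideal.map (algebraMap R (Localization.AtPrime P)) Q).IsPrime :=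
    IsLocalization.isPrime_of_isPrime_disjoint P.primeCompl _ Q hQ hdisj
  have hcm : Ideal.comap (algebraMap R (Localization.AtPrime P))
      (Ideal.map (algebraMap R (Localization.AtPrime P)) Q) = Q :=
    IsLocalization.comap_map_of_isPrime_disjoint P.primeCompl _ hQ hdisj
  have hne : Ideal.map (algebraMap R (Localization.AtPrime P)) Q ≠ ⊥ := by
    intro h
    apply hQ0
    rw [← hcm, h]
    exact Ideal.comap_bot_of_injective _ (algebraMap_injective P)
  have hmax : (Ideal.map (algebraMap R (Localization.AtPrime P)) Q).IsMaximal :=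
    hprime.isMaximal hne
  have heq : Ideal.map (algebraMap R (Localization.AtPrime P)) Q =
      maximalIdeal (Localization.AtPrime P) := IsLocalRing.eq_maximalIdeal hmax
  rw [← hcm, heq]
  exact IsLocalization.AtPrime.comap_maximalIdeal (Localization.AtPrime P) P

theorem ass_mem_minimal {f : R} (hf : f ≠ 0) (P : Ideal R)
    (hP : IsAssociatedPrime P (R ⧸ Ideal.span {f})) : P ∈ (Ideal.span {f}).minimalPrimes := by
  haveI := hP.isPrime
  haveI := dvr_of_ass hf P hP
  have hfP : Ideal.span {f} ≤ P := by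
    obtain ⟨-, ybar, hy⟩ := isAssociatedPrime_iff.mp hP
    obtain ⟨y, rfl⟩ := Ideal.Quotient.mk_surjective ybar
    rw [Ideal.span_le, Set.singleton_subset_iff, hy, SetLike.mem_coe,
      Submodule.mem_colon_singleton, Submodule.mem_bot, smul_mk_eq_zero_iff]
    exact ⟨y, rfl⟩
  obtain ⟨Q, hQ, hQP⟩ := Ideal.exists_minimalPrimes_le hfP
  haveI := hQ.1.1
  have hQ0 : Q ≠ ⊥ := by
    intro h
    have : f ∈ Q := hQ.1.2 (Ideal.mem_span_singleton_self f)
    rw [h] at this
    exact hf ((Submodule.mem_bot _).mp this)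
  rw [← eq_of_le_dvr P Q hQ0 hQP]
  exact hQ

end Dvr

section Val

variable {R : Type u} [CommRing R] [IsDomain R]

/-- `P` is prime and `R_P` is a DVR -/
def IsDvrPrime (P : Ideal R) : Prop :=
  ∃ hp : P.IsPrime, haveI := hp; IsDiscreteValuationRing (Localization.AtPrime P)

open Classical in
/-- the valuation at a DVR prime (junk value `0` otherwise) -/
noncomputable def val (P : Ideal R) (a : R) : ℕ∞ :=
  if h : IsDvrPrime P then
    haveI := h.choose
    haveI := h.choose_spec
    IsDiscreteValuationRing.addVal (Localization.AtPrime P)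
      (algebraMap R (Localization.AtPrime P) a)
  else 0

theorem val_eq (P : Ideal R) [hp : P.IsPrime]
    [hd : IsDiscreteValuationRing (Localization.AtPrime P)] (a : R) :
    val P a = IsDiscreteValuationRing.addVal (Localization.AtPrime P)
      (algebraMap R (Localization.AtPrime P) a) := by
  unfold val
  rw [dif_pos ⟨hp, hd⟩]

variable {P : Ideal R}

theorem IsDvrPrime.isPrime (h : IsDvrPrime P) : P.IsPrime := h.choose

theorem val_mul (h : IsDvrPrime P) (a b : R) : val P (a * b) = val P a + val P b := by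
  obtain ⟨hp, hd⟩ := h
  haveI := hp
  haveI := hd
  rw [val_eq, val_eq, val_eq, map_mul, IsDiscreteValuationRing.addVal_mul]

theorem val_pow (h : IsDvrPrime P) (a : R) (n : ℕ) : val P (a ^ n) = n • val P a := by
  obtain ⟨hp, hd⟩ := h
  haveI := hp
  haveI := hd
  rw [val_eq, val_eq, map_pow, IsDiscreteValuationRing.addVal_pow]

theorem val_add_ge (h : IsDvrPrime P) (a b : R) : min (val P a) (val P b) ≤ val P (a + b) := by
  obtain ⟨hp, hd⟩ := h
  haveI := hp
  haveI := hd
  rw [val_eq, val_eq, val_eq, map_add]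
  exact IsDiscreteValuationRing.addVal_add

theorem val_add_eq_of_lt (h : IsDvrPrime P) {a b : R} (hlt : val P a < val P b) :
    val P (a + b) = val P a := by
  obtain ⟨hp, hd⟩ := h
  haveI := hp
  haveI := hd
  rw [val_eq, val_eq] at hlt
  rw [val_eq, val_eq, map_add]
  exact AddValuation.map_add_eq_of_lt_left _ hlt

theorem val_eq_top (h : IsDvrPrime P) {a : R} : val P a = ⊤ ↔ a = 0 := by
  obtain ⟨hp, hd⟩ := h
  haveI := hp
  haveI := hd
  rw [val_eq, IsDiscreteValuationRing.addVal_eq_top_iff]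
  constructor
  · intro h0
    exact algebraMap_injective P (by rw [h0, map_zero])
  · intro h0
    rw [h0, map_zero]

theorem val_eq_zero (h : IsDvrPrime P) {a : R} : val P a = 0 ↔ a ∉ P := by
  obtain ⟨hp, hd⟩ := h
  haveI := hp
  haveI := hd
  rw [val_eq, IsDiscreteValuationRing.addVal_eq_zero_iff,
    IsLocalization.AtPrime.isUnit_to_map_iff (Localization.AtPrime P) P a]
  rfl

theorem val_pos (h : IsDvrPrime P) {a : R} : 0 < val P a ↔ a ∈ P := by
  rw [pos_iff_ne_zero, ne_eq, val_eq_zero h, not_not]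

theorem one_le_val (h : IsDvrPrime P) {a : R} (ha : a ∈ P) : 1 ≤ val P a :=
  Order.one_le_iff_pos.mpr ((val_pos h).mpr ha)

theorem exists_of_val_le (h : IsDvrPrime P) {a b : R} (hle : val P a ≤ val P b) :
    ∃ s, s ∉ P ∧ ∃ c, s * b = a * c := by
  obtain ⟨hp, hd⟩ := h
  haveI := hp
  haveI := hd
  rw [val_eq, val_eq, IsDiscreteValuationRing.addVal_le_iff_dvd] at hle
  obtain ⟨z, hz⟩ := hle
  obtain ⟨c, s, rfl⟩ := IsLocalization.exists_mk'_eq P.primeCompl z
  refine ⟨s, s.2, c, ?_⟩
  apply algebraMap_injective P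
  rw [map_mul, map_mul, hz, mul_comm, mul_assoc, IsLocalization.mk'_spec]

theorem exists_val_one (h : IsDvrPrime P) : ∃ a ∈ P, val P a = 1 := by
  have h' := h
  obtain ⟨hp, hd⟩ := h
  haveI := hp
  haveI := hd
  obtain ⟨ϖ, hϖ⟩ := IsDiscreteValuationRing.exists_irreducible (Localization.AtPrime P)
  obtain ⟨a, s, rfl⟩ := IsLocalization.exists_mk'_eq P.primeCompl ϖ
  have h1 : val P a = 1 := by
    rw [val_eq, ← IsLocalization.mk'_spec (Localization.AtPrime P) a s,
      IsDiscreteValuationRing.addVal_mul, IsDiscreteValuationRing.addVal_uniformizer hϖ]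
    have h0 : IsDiscreteValuationRing.addVal (Localization.AtPrime P)
        (algebraMap R (Localization.AtPrime P) (s : R)) = 0 :=
      IsDiscreteValuationRing.addVal_eq_zero_iff.mpr (IsLocalization.map_units _ s)
    rw [h0, add_zero]
  refine ⟨a, ?_, h1⟩
  exact (val_pos h').mp (by rw [h1]; exact zero_lt_one)

end Val

section Div

variable {R : Type u} [CommRing R] [IsDomain R] [IsNoetherianRing R] [IsIntegrallyClosed R]

theorem isDvrPrime_of_minimal {f : R} (hf : f ≠ 0) {P : Ideal R}
    (hP : P ∈ (Ideal.span {f}).minimalPrimes) : IsDvrPrime P :=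
  ⟨hP.1.1, by haveI := hP.1.1; exact dvr_of_minimal hf P hP⟩

omit [IsNoetherianRing R] [IsIntegrallyClosed R] in
theorem IsDvrPrime.eq_of_le {P : Ideal R} (h : IsDvrPrime P) {Q : Ideal R} (hQ : Q.IsPrime)
    (hQ0 : Q ≠ ⊥) (hQP : Q ≤ P) : Q = P := by
  obtain ⟨hp, hd⟩ := h
  haveI := hp
  haveI := hd
  exact eq_of_le_dvr P Q hQ0 hQP

omit [IsNoetherianRing R] [IsIntegrallyClosed R] in
theorem IsDvrPrime.mem_minimal {P : Ideal R} (h : IsDvrPrime P) {f : R} (hf : f ≠ 0)
    (hfP : f ∈ P) : P ∈ (Ideal.span {f}).minimalPrimes := by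
  refine ⟨⟨h.isPrime, by rwa [Ideal.span_le, Set.singleton_subset_iff]⟩, ?_⟩
  intro Q hQ hQP
  have hQ0 : Q ≠ ⊥ := by
    intro h0
    have : f ∈ Q := hQ.2 (Ideal.mem_span_singleton_self f)
    rw [h0] at this
    exact hf ((Submodule.mem_bot _).mp this)
  exact (h.eq_of_le hQ.1 hQ0 hQP).ge

/-- divisibility is detected at the minimal primes of the divisor -/
theorem dvd_of_forall_val_le {f g : R} (hf : f ≠ 0)
    (h : ∀ P ∈ (Ideal.span {f}).minimalPrimes, val P f ≤ val P g) : f ∣ g := by
  by_contra hfg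
  have hne : Ideal.Quotient.mk (Ideal.span {f}) g ≠ 0 := by
    rw [ne_eq, Ideal.Quotient.eq_zero_iff_mem, Ideal.mem_span_singleton]
    exact hfg
  obtain ⟨P, hP, hle⟩ := exists_le_isAssociatedPrime_of_isNoetherianRing R _ hne
  have hPmin := ass_mem_minimal hf P hP
  have hdv := isDvrPrime_of_minimal hf hPmin
  obtain ⟨s, hs, c, hc⟩ := exists_of_val_le hdv (h P hPmin)
  apply hs
  apply hle
  rw [Submodule.mem_colon_singleton, Submodule.mem_bot, smul_mk_eq_zero_iff]
  exact ⟨c, hc⟩

/-- `R/fR` is reduced if `f` has valuation `≤ 1` at all its minimal primes -/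
theorem isReduced_of_val_le_one {f : R} (hf : f ≠ 0)
    (h : ∀ P ∈ (Ideal.span {f}).minimalPrimes, val P f ≤ 1) :
    IsReduced (R ⧸ Ideal.span {f}) := by
  rw [← Ideal.isRadical_iff_quotient_reduced]
  intro a ha
  obtain ⟨n, hn⟩ := ha
  rw [Ideal.mem_span_singleton]
  apply dvd_of_forall_val_le hf
  intro P hP
  have hdv := isDvrPrime_of_minimal hf hP
  have haP : a ∈ P := hP.1.1.mem_of_pow_mem n (hP.1.2 hn)
  exact (h P hP).trans (one_le_val hdv haP)

end Div

end Groth.Agent.Helper6.PrinRad
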