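import Mathlib
import Groth.Agent.Lib.Helper6.PrinRad.Dvr

/-!
# Principal radical ideals II: the modification step `f ↦ f + x g`
-/

set_option autoImplicit false

namespace Groth.Agent.Helper6.PrinRad

open IsLocalRing

universe u

variable {R : Type u} [CommRing R] [IsDomain R] [IsNoetherianRing R] [IsIntegrallyClosed R]

omit [IsDomain R] [IsNoetherianRing R] [IsIntegrallyClosed R] in
/-- prime avoidance for a finite set of primes none of which is contained in `q` -/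
theorem exists_avoid (S : Finset (Ideal R)) (q : Ideal R) (hq : q.IsPrime)
    (hS : ∀ p ∈ S, ¬ p ≤ q) : ∃ h : R, (∀ p ∈ S, h ∈ p) ∧ h ∉ q := by
  have hnot : ¬ (S.inf id ≤ q) := by
    rw [Ideal.IsPrime.inf_le' hq]
    rintro ⟨p, hp, hpq⟩
    exact hS p hp hpq
  obtain ⟨h, hh, hhq⟩ := SetLike.not_le_iff_exists.mp hnot
  refine ⟨h, fun p hp => ?_, hhq⟩
  exact (Submodule.mem_finsetInf.mp hh) p hp

omit [IsNoetherianRing R] [IsIntegrallyClosed R] in
theorem ne_bot_of_mem {f : R} (hf : f ≠ 0) {p : Ideal R} (hfp : f ∈ p) : p ≠ ⊥ := by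
  intro h0
  rw [h0] at hfp
  exact hf ((Submodule.mem_bot _).mp hfp)

theorem exists_g {f : R} (hf : f ≠ 0) {q : Ideal R}
    (hq : q ∈ (Ideal.span {f}).minimalPrimes) :
    ∃ g : R, val q g = 1 ∧ (∀ p ∈ (Ideal.span {f}).minimalPrimes, g ∈ p) ∧
      ∀ p ∈ (Ideal.span {f}).minimalPrimes, p ≠ q → val p f < val p g := by
  classical
  have hfin := Ideal.finite_minimalPrimes_of_isNoetherianRing R (Ideal.span {f})
  have hqd := isDvrPrime_of_minimal hf hq
  obtain ⟨S, hS⟩ : ∃ S : Finset (Ideal R), S = hfin.toFinset.erase q := ⟨_, rfl⟩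
  have hSmem : ∀ p, p ∈ S ↔ p ∈ (Ideal.span {f}).minimalPrimes ∧ p ≠ q := by
    intro p
    rw [hS, Finset.mem_erase, Set.Finite.mem_toFinset, and_comm]
  have hfp : ∀ p ∈ (Ideal.span {f}).minimalPrimes, f ∈ p :=
    fun p hp => hp.1.2 (Ideal.mem_span_singleton_self f)
  have hSnot : ∀ p ∈ S, ¬ p ≤ q := by
    intro p hp hpq
    obtain ⟨hpm, hpne⟩ := (hSmem p).mp hp
    exact hpne (hqd.eq_of_le hpm.1.1 (ne_bot_of_mem hf (hfp p hpm)) hpq)
  obtain ⟨h, hhS, hhq⟩ := exists_avoid S q hq.1.1 hSnot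
  obtain ⟨a, haq, hva⟩ := exists_val_one hqd
  obtain ⟨N, hN⟩ : ∃ N : ℕ, N = 1 + ∑ p ∈ S, (val p f).toNat := ⟨_, rfl⟩
  refine ⟨a * h ^ N, ?_, ?_, ?_⟩
  · rw [val_mul hqd, val_pow hqd, hva, (val_eq_zero hqd).mpr hhq, smul_zero, add_zero]
  · intro p hp
    by_cases hpq : p = q
    · rw [hpq]; exact q.mul_mem_right _ haq
    · apply p.mul_mem_left
      exact Ideal.pow_mem_of_mem p (hhS p ((hSmem p).mpr ⟨hp, hpq⟩)) N (by omega)
  · intro p hp hpq
    have hpd := isDvrPrime_of_minimal hf hp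
    have hpS : p ∈ S := (hSmem p).mpr ⟨hp, hpq⟩
    have hne_top : val p f ≠ ⊤ := fun h => hf ((val_eq_top hpd).mp h)
    have h1 : val p f = ((val p f).toNat : ℕ∞) := (ENat.coe_toNat hne_top).symm
    have h5 : (val p f).toNat ≤ ∑ p ∈ S, (val p f).toNat :=
      Finset.single_le_sum (f := fun p => (val p f).toNat) (fun i _ => Nat.zero_le _) hpS
    have h2 : (val p f).toNat < N := by omega
    have h3 : (N : ℕ∞) ≤ val p (a * h ^ N) := by
      rw [val_mul hpd, val_pow hpd]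
      have h4 : (1 : ℕ∞) ≤ val p h := one_le_val hpd (hhS p hpS)
      calc (N : ℕ∞) = N • (1 : ℕ∞) := by rw [nsmul_eq_mul, mul_one]
        _ ≤ N • val p h := nsmul_le_nsmul_right h4 N
        _ ≤ val p a + N • val p h := le_add_self
    calc val p f = ((val p f).toNat : ℕ∞) := h1
      _ < (N : ℕ∞) := by exact_mod_cast h2
      _ ≤ _ := h3

omit [IsNoetherianRing R] [IsIntegrallyClosed R] in
theorem false_of_mem {f₀ x : R} (hf₀ : f₀ ≠ 0)
    (hx : ∀ p ∈ (Ideal.span {f₀}).minimalPrimes, x ∉ p)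
    {P : Ideal R} (hP : IsDvrPrime P) (hxP : x ∈ P) (hfP : f₀ ∈ P) : False := by
  haveI := hP.isPrime
  have hle : Ideal.span {f₀} ≤ P := by rwa [Ideal.span_le, Set.singleton_subset_iff]
  obtain ⟨p₀, hp₀, hp₀P⟩ := Ideal.exists_minimalPrimes_le hle
  have hp00 : p₀ ≠ ⊥ := ne_bot_of_mem hf₀ (hp₀.1.2 (Ideal.mem_span_singleton_self f₀))
  have heq : p₀ = P := hP.eq_of_le hp₀.1.1 hp00 hp₀P
  apply hx p₀ hp₀
  rw [heq]
  exact hxP

theorem minimal_of_nonunit [IsLocalRing R] {x : R} (hx0 : x ≠ 0) (hxm : x ∈ maximalIdeal R) :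
    ∃ P, IsDvrPrime P ∧ x ∈ P := by
  have hne : Ideal.span {x} ≠ ⊤ := by
    intro h
    rw [Ideal.span_singleton_eq_top] at h
    exact (mem_nonunits_iff.mp ((mem_maximalIdeal x).mp hxm)) h
  obtain ⟨⟨P, hP⟩⟩ := Ideal.nonempty_minimalPrimes hne
  exact ⟨P, isDvrPrime_of_minimal hx0 hP, hP.1.2 (Ideal.mem_span_singleton_self x)⟩

theorem invariant [IsLocalRing R] {f₀ x : R} (hf₀ : f₀ ≠ 0) (hf₀m : f₀ ∈ maximalIdeal R)
    (hxm : x ∈ maximalIdeal R)
    (hx : ∀ p ∈ (Ideal.span {f₀}).minimalPrimes, x ∉ p) {f' : R}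
    (hf' : f' - f₀ ∈ Ideal.span {x}) :
    f' ≠ 0 ∧ ∀ p ∈ (Ideal.span {f'}).minimalPrimes, x ∉ p := by
  have hx0 : x ≠ 0 := by
    intro h0
    obtain ⟨P, hPd, hfP⟩ := minimal_of_nonunit hf₀ hf₀m
    have hPmin := hPd.mem_minimal hf₀ hfP
    apply hx P hPmin
    rw [h0]
    exact zero_mem _
  have hf'0 : f' ≠ 0 := by
    intro h0
    rw [h0, zero_sub] at hf'
    have hf₀x : f₀ ∈ Ideal.span {x} := by
      have := (Ideal.span {x}).neg_mem hf'
      rwa [neg_neg] at this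
    obtain ⟨P, hPd, hxP⟩ := minimal_of_nonunit hx0 hxm
    have hle : Ideal.span {x} ≤ P := by rwa [Ideal.span_le, Set.singleton_subset_iff]
    exact false_of_mem hf₀ hx hPd hxP (hle hf₀x)
  refine ⟨hf'0, fun p hp hxp => ?_⟩
  have hpd := isDvrPrime_of_minimal hf'0 hp
  have hf'p : f' ∈ p := hp.1.2 (Ideal.mem_span_singleton_self f')
  have hle : Ideal.span {x} ≤ p := by rwa [Ideal.span_le, Set.singleton_subset_iff]
  have hf₀p : f₀ ∈ p := by
    have := p.sub_mem hf'p (hle hf')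
    rwa [sub_sub_cancel] at this
  exact false_of_mem hf₀ hx hpd hxp hf₀p

theorem step [IsLocalRing R] {f x : R} (hf : f ≠ 0) (hxm : x ∈ maximalIdeal R)
    (hx : ∀ p ∈ (Ideal.span {f}).minimalPrimes, x ∉ p) {q : Ideal R}
    (hq : q ∈ (Ideal.span {f}).minimalPrimes) (hq2 : 2 ≤ val q f) :
    ∃ g : R, (∀ p ∈ (Ideal.span {f}).minimalPrimes, g ∈ p) ∧
      (Ideal.span {f}).minimalPrimes ⊂ (Ideal.span {f + x * g}).minimalPrimes := by
  obtain ⟨g, hg1, hgmem, hglt⟩ := exists_g hf hq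
  refine ⟨g, hgmem, ?_⟩
  have hqd := isDvrPrime_of_minimal hf hq
  have hfp : ∀ p ∈ (Ideal.span {f}).minimalPrimes, f ∈ p :=
    fun p hp => hp.1.2 (Ideal.mem_span_singleton_self f)
  have hvxg : ∀ p ∈ (Ideal.span {f}).minimalPrimes, val p (x * g) = val p g := by
    intro p hp
    have hpd := isDvrPrime_of_minimal hf hp
    rw [val_mul hpd, (val_eq_zero hpd).mpr (hx p hp), zero_add]
  have h12 : (1 : ℕ∞) < 2 := by exact_mod_cast Nat.one_lt_two
  obtain ⟨f', hf'def⟩ : ∃ f' : R, f' = f + x * g := ⟨_, rfl⟩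
  rw [← hf'def]
  have hvq : val q f' = 1 := by
    have hlt : val q (x * g) < val q f := by
      rw [hvxg q hq, hg1]
      exact lt_of_lt_of_le h12 hq2
    rw [hf'def, add_comm, val_add_eq_of_lt hqd hlt, hvxg q hq, hg1]
  have hf'0 : f' ≠ 0 := by
    intro h0
    rw [h0, (val_eq_top hqd).mpr rfl] at hvq
    exact absurd hvq (by simp)
  have hsub : (Ideal.span {f}).minimalPrimes ⊆ (Ideal.span {f'}).minimalPrimes := by
    intro p hp
    have hpd := isDvrPrime_of_minimal hf hp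
    apply hpd.mem_minimal hf'0
    rw [hf'def]
    exact p.add_mem (hfp p hp) (p.mul_mem_left x (hgmem p hp))
  refine ⟨hsub, fun hsup => ?_⟩
  have hle : ∀ P ∈ (Ideal.span {f'}).minimalPrimes, val P f' ≤ val P f := by
    intro P hP'
    have hP := hsup hP'
    by_cases hPq : P = q
    · rw [hPq, hvq]; exact le_trans h12.le hq2
    · have hPd := isDvrPrime_of_minimal hf hP
      have hlt : val P f < val P (x * g) := by
        rw [hvxg P hP]
        exact hglt P hP hPq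
      rw [hf'def]
      exact (val_add_eq_of_lt hPd hlt).le
  obtain ⟨c, hc⟩ := dvd_of_forall_val_le hf'0 hle
  have hcq : c ∈ q := by
    by_contra hcq
    have h0 : val q c = 0 := (val_eq_zero hqd).mpr hcq
    have h1 : val q f = 1 := by rw [hc, val_mul hqd, hvq, h0, add_zero]
    rw [h1] at hq2
    exact absurd hq2 (not_le.mpr h12)
  have hcm : c ∈ maximalIdeal R := (le_maximalIdeal hq.1.1.ne_top) hcq
  have hu : IsUnit (1 - c) := isUnit_one_sub_self_of_mem_nonunits c ((mem_maximalIdeal c).mp hcm)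
  obtain ⟨w, hw⟩ := hu.exists_left_inv
  have h1 : f' * (1 - c) = x * g := by
    rw [mul_sub, mul_one, ← hc, hf'def]; ring
  have h2 : f' = x * g * w := by
    calc f' = f' * (w * (1 - c)) := by rw [hw, mul_one]
      _ = (f' * (1 - c)) * w := by ring
      _ = x * g * w := by rw [h1]
  have h3 : f = x * (g * w * c) := by rw [hc, h2]; ring
  have hx0 : x ≠ 0 := by
    intro h0
    apply hx q hq
    rw [h0]
    exact zero_mem _
  obtain ⟨P, hPd, hxP⟩ := minimal_of_nonunit hx0 hxm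
  have hfP : f ∈ P := by
    rw [h3]
    exact P.mul_mem_right _ hxP
  exact false_of_mem hf hx hPd hxP hfP

end Groth.Agent.Helper6.PrinRad
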