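import Mathlib
import Groth.Prelude.Def_Found
import Groth.Agent.Lib.Helper6.PrinRad.Step

/-!
# Principal radical ideals IV: the catenary argument
-/

set_option autoImplicit false

namespace Groth.Agent.Helper6.PrinRad

open IsLocalRing

universe u

/-- a chain `a < b < c` as an `LTSeries` -/
def chain3 {α : Type u} [Preorder α] (a b c : α) (hab : a < b) (hbc : b < c) : LTSeries α where
  length := 2
  toFun := ![a, b, c]
  step := by
    intro i
    fin_cases i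
    · exact hab
    · exact hbc

variable {R : Type u} [CommRing R] [IsDomain R] [IsNoetherianRing R]

theorem covBy_of_minimal_sup {q 𝔓 : Ideal R} [hq : q.IsPrime] [h𝔓 : 𝔓.IsPrime] {x : R}
    (hxq : x ∉ q) (hmin : 𝔓 ∈ (q ⊔ Ideal.span {x}).minimalPrimes) :
    (⟨q, hq⟩ : PrimeSpectrum R) ⋖ ⟨𝔓, h𝔓⟩ := by
  have hq𝔓 : q < 𝔓 := by
    refine lt_of_le_of_ne (le_sup_left.trans hmin.1.2) (fun h => ?_)
    apply hxq
    rw [h]
    exact hmin.1.2 (Ideal.mem_sup_right (Ideal.mem_span_singleton_self x))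
  refine ⟨(PrimeSpectrum.asIdeal_lt_asIdeal _ _).mp hq𝔓, fun c hqc hc𝔓 => ?_⟩
  have hqQ : q < c.asIdeal := (PrimeSpectrum.asIdeal_lt_asIdeal ⟨q, hq⟩ c).mpr hqc
  have hQ𝔓 : c.asIdeal < 𝔓 := (PrimeSpectrum.asIdeal_lt_asIdeal c ⟨𝔓, h𝔓⟩).mpr hc𝔓
  have hht := Ideal.map_height_le_one_of_mem_minimalPrimes hmin
  have hsurj : Function.Surjective (Ideal.Quotient.mk q) := Ideal.Quotient.mk_surjective
  have hker : RingHom.ker (Ideal.Quotient.mk q) = q := Ideal.mk_ker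
  haveI hQp : (Ideal.map (Ideal.Quotient.mk q) c.asIdeal).IsPrime :=
    Ideal.map_isPrime_of_surjective hsurj (by rw [hker]; exact hqQ.le)
  haveI hPp : (Ideal.map (Ideal.Quotient.mk q) 𝔓).IsPrime :=
    Ideal.map_isPrime_of_surjective hsurj (by rw [hker]; exact hq𝔓.le)
  have hcmQ : Ideal.comap (Ideal.Quotient.mk q) (Ideal.map (Ideal.Quotient.mk q) c.asIdeal) =
      c.asIdeal := by
    rw [Ideal.comap_map_of_surjective _ hsurj, ← RingHom.ker_eq_comap_bot, hker]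
    exact sup_eq_left.mpr hqQ.le
  have hcmP : Ideal.comap (Ideal.Quotient.mk q) (Ideal.map (Ideal.Quotient.mk q) 𝔓) = 𝔓 := by
    rw [Ideal.comap_map_of_surjective _ hsurj, ← RingHom.ker_eq_comap_bot, hker]
    exact sup_eq_left.mpr hq𝔓.le
  have h1 : (⊥ : Ideal (R ⧸ q)) < Ideal.map (Ideal.Quotient.mk q) c.asIdeal := by
    rw [bot_lt_iff_ne_bot]
    intro h0
    have : c.asIdeal = q := by rw [← hcmQ, h0, ← RingHom.ker_eq_comap_bot, hker]
    exact hqQ.ne this.symm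
  have h2 : Ideal.map (Ideal.Quotient.mk q) c.asIdeal < Ideal.map (Ideal.Quotient.mk q) 𝔓 := by
    refine lt_of_le_of_ne (Ideal.map_mono hQ𝔓.le) (fun h => ?_)
    have : c.asIdeal = 𝔓 := by rw [← hcmQ, h, hcmP]
    exact hQ𝔓.ne this
  have h3 := Ideal.height_add_one_le_of_lt_of_isPrime h1
  have h4 := Ideal.height_add_one_le_of_lt_of_isPrime h2
  have h5 : (1 : ℕ∞) ≤ (Ideal.map (Ideal.Quotient.mk q) c.asIdeal).height := le_add_self.trans h3
  have h6 : (2 : ℕ∞) ≤ 1 :=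
    calc (2 : ℕ∞) = 1 + 1 := by norm_num
      _ ≤ (Ideal.map (Ideal.Quotient.mk q) c.asIdeal).height + 1 := by gcongr
      _ ≤ (Ideal.map (Ideal.Quotient.mk q) 𝔓).height := h4
      _ ≤ 1 := hht
  have h7 : ¬ ((2 : ℕ∞) ≤ 1) := by exact_mod_cast (by norm_num : ¬ ((2 : ℕ) ≤ 1))
  exact h7 h6

variable [IsIntegrallyClosed R]

/-- in a catenary Noetherian normal domain: if `q` is a minimal prime of `f'`, `x` lies in no
minimal prime of `f'`, then every minimal prime of `q + (x)` is a minimal prime of `(f', x)` -/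
theorem minimal_sup_mem_minimal (hc : CAlg.IsCatenary R) {f' x : R} (hf' : f' ≠ 0)
    (hx : ∀ p ∈ (Ideal.span {f'}).minimalPrimes, x ∉ p) {q : Ideal R}
    (hq : q ∈ (Ideal.span {f'}).minimalPrimes) {𝔓 : Ideal R}
    (h𝔓 : 𝔓 ∈ (q ⊔ Ideal.span {x}).minimalPrimes) :
    𝔓 ∈ (Ideal.span {f', x}).minimalPrimes := by
  haveI hqp : q.IsPrime := hq.1.1
  haveI h𝔓p : 𝔓.IsPrime := h𝔓.1.1
  have hqd := isDvrPrime_of_minimal hf' hq
  have hfq : f' ∈ q := hq.1.2 (Ideal.mem_span_singleton_self f')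
  have hq0 : q ≠ ⊥ := ne_bot_of_mem hf' hfq
  have hq𝔓 : q ≤ 𝔓 := le_sup_left.trans h𝔓.1.2
  have hx𝔓 : x ∈ 𝔓 := h𝔓.1.2 (Ideal.mem_sup_right (Ideal.mem_span_singleton_self x))
  -- the points of the spectrum
  obtain ⟨b, hb⟩ : ∃ b : PrimeSpectrum R, b = ⟨⊥, Ideal.bot_prime⟩ := ⟨_, rfl⟩
  have cov1 : b ⋖ (⟨q, hqp⟩ : PrimeSpectrum R) := by
    rw [hb]
    refine ⟨(PrimeSpectrum.asIdeal_lt_asIdeal _ _).mp (bot_lt_iff_ne_bot.mpr hq0),
      fun c hbc hcq => ?_⟩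
    have hc0 : c.asIdeal ≠ ⊥ :=
      bot_lt_iff_ne_bot.mp ((PrimeSpectrum.asIdeal_lt_asIdeal ⟨⊥, Ideal.bot_prime⟩ c).mpr hbc)
    have hcq' : c.asIdeal ≤ q := ((PrimeSpectrum.asIdeal_lt_asIdeal c ⟨q, hqp⟩).mpr hcq).le
    have heq := hqd.eq_of_le c.isPrime hc0 hcq'
    exact hcq.ne (PrimeSpectrum.ext heq)
  have cov2 : (⟨q, hqp⟩ : PrimeSpectrum R) ⋖ ⟨𝔓, h𝔓p⟩ := covBy_of_minimal_sup (hx q hq) h𝔓
  -- a chain of maximal length ending at 𝔓
  obtain ⟨l, hl_last, hl_len⟩ := Ideal.exists_ltSeries_length_eq_height 𝔓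
  have hlen' : (l.length : ℕ∞) = Order.height (RelSeries.last l) := by
    rw [hl_last, hl_len]
    exact PrimeSpectrum.height_eq_orderHeight ⟨𝔓, h𝔓p⟩
  have hidx := Order.height_eq_index_of_length_eq_height_last hlen'
  have hhead : RelSeries.head l = b := by
    have h0 : Order.height (RelSeries.head l) = 0 := by
      have := hidx 0
      simpa [RelSeries.head] using this
    have hmin : IsMin (RelSeries.head l) := Order.height_eq_zero.mp h0
    have hble : b ≤ RelSeries.head l := by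
      rw [hb, ← PrimeSpectrum.asIdeal_le_asIdeal]
      exact bot_le
    exact le_antisymm (hmin hble) hble
  have hsat : ∀ i : Fin l.length, l (Fin.castSucc i) ⋖ l (Fin.succ i) := by
    intro i
    refine ⟨l.step i, fun c hac hcb => ?_⟩
    have h1 := Order.height_add_one_le hac
    have h2 := Order.height_add_one_le hcb
    have h3 : ((i : ℕ) : ℕ∞) + 1 + 1 ≤ (((i : ℕ) + 1 : ℕ) : ℕ∞) := by
      calc ((i : ℕ) : ℕ∞) + 1 + 1 = Order.height (l (Fin.castSucc i)) + 1 + 1 := by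
            rw [hidx]; simp
        _ ≤ Order.height c + 1 := by gcongr
        _ ≤ Order.height (l (Fin.succ i)) := h2
        _ = _ := by rw [hidx]; simp
    have h4 : (i : ℕ) + 1 + 1 ≤ (i : ℕ) + 1 := by exact_mod_cast h3
    omega
  -- the catenary property
  have hs_sat : ∀ i : Fin (chain3 b ⟨q, hqp⟩ ⟨𝔓, h𝔓p⟩ cov1.lt cov2.lt).length,
      (chain3 b ⟨q, hqp⟩ ⟨𝔓, h𝔓p⟩ cov1.lt cov2.lt) (Fin.castSucc i) ⋖
        (chain3 b ⟨q, hqp⟩ ⟨𝔓, h𝔓p⟩ cov1.lt cov2.lt) (Fin.succ i) := by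
    intro i
    change Fin 2 at i
    fin_cases i
    · exact cov1
    · exact cov2
  have hlen2 : (chain3 b ⟨q, hqp⟩ ⟨𝔓, h𝔓p⟩ cov1.lt cov2.lt).length = l.length :=
    hc.2 _ l (by rw [hhead]; rfl) (by rw [hl_last]; rfl) hs_sat hsat
  have hht : 𝔓.height = 2 := by
    rw [← hl_len, ← hlen2]
    rfl
  -- minimality
  refine ⟨⟨h𝔓p, ?_⟩, ?_⟩
  · rw [Ideal.span_le]
    intro a ha
    rcases ha with rfl | rfl
    · exact hq𝔓 hfq
    · exact hx𝔓
  · intro Q hQ hQ𝔓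
    by_contra hnot
    have hlt : Q < 𝔓 := lt_of_le_of_ne hQ𝔓 (fun h => hnot (h ▸ le_refl _))
    haveI := hQ.1
    have hfQ : f' ∈ Q := hQ.2 (Ideal.subset_span (Set.mem_insert _ _))
    have hxQ : x ∈ Q := hQ.2 (Ideal.subset_span (Set.mem_insert_of_mem _ rfl))
    have hle : Ideal.span {f'} ≤ Q := by rwa [Ideal.span_le, Set.singleton_subset_iff]
    obtain ⟨p, hp, hpQ⟩ := Ideal.exists_minimalPrimes_le hle
    haveI := hp.1.1
    have hp0 : p ≠ ⊥ := ne_bot_of_mem hf' (hp.1.2 (Ideal.mem_span_singleton_self f'))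
    have hpltQ : p < Q := lt_of_le_of_ne hpQ (fun h => hx p hp (h ▸ hxQ))
    have h1 := Ideal.height_add_one_le_of_lt_of_isPrime (bot_lt_iff_ne_bot.mpr hp0)
    have h2 := Ideal.height_add_one_le_of_lt_of_isPrime hpltQ
    have h3 := Ideal.height_add_one_le_of_lt_of_isPrime hlt
    rw [hht] at h3
    have h4 : (1 : ℕ∞) ≤ p.height := le_add_self.trans h1
    have h5 : (3 : ℕ∞) ≤ 2 :=
      calc (3 : ℕ∞) = 1 + 1 + 1 := by norm_num
        _ ≤ p.height + 1 + 1 := by gcongr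
        _ ≤ Q.height + 1 := by gcongr
        _ ≤ 2 := h3
    have h6 : ¬ ((3 : ℕ∞) ≤ 2) := by exact_mod_cast (by norm_num : ¬ ((3 : ℕ) ≤ 2))
    exact h6 h5

end Groth.Agent.Helper6.PrinRad
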