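import Mathlib

/-!
# Principal radical ideals III: bounding the number of incomparable primes not containing `x`
by a length
-/

set_option autoImplicit false

namespace Groth.Agent.Helper6.PrinRad

open IsLocalRing

universe u

theorem card_le_coheight {T : Type u} [CommRing T] [IsLocalRing T] [IsNoetherianRing T] (x : T)
    (hx : x ∈ maximalIdeal T) (W : Finset (Ideal T)) :
    (∀ p ∈ W, p.IsPrime ∧ x ∉ p) → (∀ p ∈ W, ∀ p' ∈ W, p ≤ p' → p = p') →
    (W.card : ℕ∞) ≤ Order.coheight ((W.inf id) ⊔ Ideal.span {x}) := by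
  classical
  induction W using Finset.induction_on with
  | empty => intro _ _; simp
  | insert q W' hqW ih =>
    intro hW hinc
    have hW' : ∀ p ∈ W', p.IsPrime ∧ x ∉ p := fun p hp => hW p (Finset.mem_insert_of_mem hp)
    have hinc' : ∀ p ∈ W', ∀ p' ∈ W', p ≤ p' → p = p' := fun p hp p' hp' =>
      hinc p (Finset.mem_insert_of_mem hp) p' (Finset.mem_insert_of_mem hp')
    have ih' := ih hW' hinc'
    have hqprime := (hW q (Finset.mem_insert_self q W')).1
    rw [Finset.card_insert_of_notMem hqW, Finset.inf_insert, id_eq, Nat.cast_add, Nat.cast_one]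
    have hlt : (q ⊓ W'.inf id) ⊔ Ideal.span {x} < W'.inf id ⊔ Ideal.span {x} := by
      refine lt_of_le_of_ne (sup_le_sup_right inf_le_right _) (fun heq => ?_)
      have h1 : W'.inf id ≤ (q ⊓ W'.inf id) ⊔ Ideal.span {x} • W'.inf id := by
        intro a ha
        have ha' : a ∈ (q ⊓ W'.inf id) ⊔ Ideal.span {x} := by
          rw [heq]; exact Ideal.mem_sup_left ha
        obtain ⟨b, hb, c, hc, rfl⟩ := Submodule.mem_sup.mp ha'
        obtain ⟨s, rfl⟩ := Ideal.mem_span_singleton'.mp hc
        have hs : s ∈ W'.inf id := by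
          rw [Submodule.mem_finsetInf]
          intro p hp
          have hbp : b ∈ p := (Submodule.mem_finsetInf.mp (Submodule.mem_inf.mp hb).2) p hp
          have hap : b + s * x ∈ p := (Submodule.mem_finsetInf.mp ha) p hp
          have hsx : s * x ∈ p := by
            have := p.sub_mem hap hbp
            rwa [add_sub_cancel_left] at this
          exact ((hW' p hp).1.mem_or_mem hsx).resolve_right (hW' p hp).2
        refine Submodule.add_mem_sup hb ?_
        rw [mul_comm, ← smul_eq_mul]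
        exact Submodule.smul_mem_smul (Ideal.mem_span_singleton_self x) hs
      have h2 : W'.inf id ≤ q ⊓ W'.inf id :=
        Submodule.le_of_le_smul_of_le_jacobson_bot (IsNoetherian.noetherian _) (by
          rw [jacobson_eq_maximalIdeal ⊥ bot_ne_top, Ideal.span_le, Set.singleton_subset_iff]
          exact hx) h1
      have h3 : W'.inf id ≤ q := h2.trans inf_le_left
      obtain ⟨p, hp, hpq⟩ := (Ideal.IsPrime.inf_le' hqprime).mp h3
      have := hinc p (Finset.mem_insert_of_mem hp) q (Finset.mem_insert_self q W') hpq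
      exact hqW (this ▸ hp)
    calc ((W'.card : ℕ∞) + 1) ≤ Order.coheight (W'.inf id ⊔ Ideal.span {x}) + 1 := by gcongr
      _ ≤ _ := Order.coheight_add_one_le hlt

theorem card_le_coheight_loc {R : Type u} [CommRing R] [IsNoetherianRing R]
    (𝔓 : Ideal R) [h𝔓 : 𝔓.IsPrime] (x : R) (hx𝔓 : x ∈ 𝔓) (S : Finset (Ideal R))
    (hS : ∀ q ∈ S, q.IsPrime ∧ q ≤ 𝔓 ∧ x ∉ q) (hinc : ∀ q ∈ S, ∀ q' ∈ S, q ≤ q' → q = q')
    (𝔞 : Ideal R) (h𝔞 : 𝔞 ≤ (S.inf id) ⊔ Ideal.span {x}) :
    (S.card : ℕ∞) ≤ Order.coheight (Ideal.map (algebraMap R (Localization.AtPrime 𝔓)) 𝔞) := by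
  classical
  have hdisj : ∀ q ∈ S, Disjoint (𝔓.primeCompl : Set R) (q : Set R) := by
    intro q hq
    rw [Set.disjoint_left]
    intro a ha haq
    exact ha ((hS q hq).2.1 haq)
  have hcm : ∀ q ∈ S, Ideal.comap (algebraMap R (Localization.AtPrime 𝔓))
      (Ideal.map (algebraMap R (Localization.AtPrime 𝔓)) q) = q := fun q hq =>
    IsLocalization.comap_map_of_isPrime_disjoint 𝔓.primeCompl _ (hS q hq).1 (hdisj q hq)
  have hinj : Set.InjOn (Ideal.map (algebraMap R (Localization.AtPrime 𝔓))) S := by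
    intro q hq q' hq' h
    rw [← hcm q hq, ← hcm q' hq', h]
  have hcard : (S.image (Ideal.map (algebraMap R (Localization.AtPrime 𝔓)))).card = S.card :=
    Finset.card_image_of_injOn hinj
  haveI : IsNoetherianRing (Localization.AtPrime 𝔓) :=
    IsLocalization.isNoetherianRing 𝔓.primeCompl _ inferInstance
  have hC1 := card_le_coheight (algebraMap R (Localization.AtPrime 𝔓) x)
    ((IsLocalization.AtPrime.to_map_mem_maximal_iff _ 𝔓 x).mpr hx𝔓)
    (S.image (Ideal.map (algebraMap R (Localization.AtPrime 𝔓)))) ?_ ?_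
  · rw [hcard] at hC1
    refine hC1.trans (Order.coheight_anti ?_)
    rw [Ideal.map_le_iff_le_comap]
    intro a ha
    obtain ⟨b, hb, c, hc, rfl⟩ := Submodule.mem_sup.mp (h𝔞 ha)
    obtain ⟨s, rfl⟩ := Ideal.mem_span_singleton'.mp hc
    rw [Ideal.mem_comap, map_add, map_mul]
    refine Submodule.add_mem_sup ?_ ?_
    · rw [Submodule.mem_finsetInf]
      intro I hI
      obtain ⟨q, hq, rfl⟩ := Finset.mem_image.mp hI
      exact Ideal.mem_map_of_mem _ ((Submodule.mem_finsetInf.mp hb) q hq)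
    · exact Ideal.mul_mem_left _ _ (Ideal.mem_span_singleton_self _)
  · intro I hI
    obtain ⟨q, hq, rfl⟩ := Finset.mem_image.mp hI
    refine ⟨IsLocalization.isPrime_of_isPrime_disjoint 𝔓.primeCompl _ q (hS q hq).1
      (hdisj q hq), fun hmem => ?_⟩
    have h1 : x ∈ Ideal.comap (algebraMap R (Localization.AtPrime 𝔓))
        (Ideal.map (algebraMap R (Localization.AtPrime 𝔓)) q) := hmem
    rw [hcm q hq] at h1
    exact (hS q hq).2.2 h1
  · intro I hI I' hI' hle
    obtain ⟨q, hq, rfl⟩ := Finset.mem_image.mp hI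
    obtain ⟨q', hq', rfl⟩ := Finset.mem_image.mp hI'
    have h1 : q ≤ q' := by
      rw [← hcm q hq, ← hcm q' hq']
      exact Ideal.comap_mono hle
    rw [hinc q hq q' hq' h1]

theorem coheight_ne_top {R : Type u} [CommRing R] [IsNoetherianRing R] (𝔞 𝔓 : Ideal R)
    [𝔓.IsPrime] (h𝔓 : 𝔓 ∈ 𝔞.minimalPrimes) :
    Order.coheight (Ideal.map (algebraMap R (Localization.AtPrime 𝔓)) 𝔞) ≠ ⊤ := by
  haveI : IsNoetherianRing (Localization.AtPrime 𝔓) :=
    IsLocalization.isNoetherianRing 𝔓.primeCompl _ inferInstance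
  have hmin : maximalIdeal (Localization.AtPrime 𝔓) ∈
      (Ideal.map (algebraMap R (Localization.AtPrime 𝔓)) 𝔞).minimalPrimes := by
    rw [IsLocalization.minimalPrimes_map 𝔓.primeCompl (Localization.AtPrime 𝔓) 𝔞,
      Set.mem_preimage, IsLocalization.AtPrime.under_maximalIdeal (Localization.AtPrime 𝔓) 𝔓]
    exact h𝔓
  haveI : IsArtinianRing (Localization.AtPrime 𝔓 ⧸
      Ideal.map (algebraMap R (Localization.AtPrime 𝔓)) 𝔞) :=
    quotient_artinian_of_mem_minimalPrimes_of_isLocalRing _ hmin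
  rw [← Module.length_quotient,
    Module.length_eq_of_surjective (R := Localization.AtPrime 𝔓 ⧸
      Ideal.map (algebraMap R (Localization.AtPrime 𝔓)) 𝔞) (S := Localization.AtPrime 𝔓)
      Ideal.Quotient.mk_surjective]
  exact Module.length_ne_top

end Groth.Agent.Helper6.PrinRad
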