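import Mathlib
import Groth.Prelude.Def_Found
import Groth.Agent.Lib.Helper6.PrinRad.Caten
import Groth.Agent.Lib.Helper6.PrinRad.Chain

/-!
# Principal radical ideals V: in a catenary Noetherian normal local domain every nonzero radical
ideal contains a nonzero `f` with `R/fR` reduced
-/

set_option autoImplicit false

namespace Groth.Agent.Helper6.PrinRad

open IsLocalRing

universe u

variable {R : Type u} [CommRing R] [IsDomain R] [IsNoetherianRing R] [IsLocalRing R]
  [IsIntegrallyClosed R]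

open Classical in
/-- the bound attached to a prime -/
noncomputable def bnd (𝔞 𝔓 : Ideal R) : ℕ :=
  if h : 𝔓.IsPrime then
    haveI := h
    (Order.coheight (Ideal.map (algebraMap R (Localization.AtPrime 𝔓)) 𝔞)).toNat
  else 0

omit [IsDomain R] [IsNoetherianRing R] [IsLocalRing R] [IsIntegrallyClosed R] in
theorem bnd_eq (𝔞 𝔓 : Ideal R) [h : 𝔓.IsPrime] :
    bnd 𝔞 𝔓 = (Order.coheight (Ideal.map (algebraMap R (Localization.AtPrime 𝔓)) 𝔞)).toNat := by
  unfold bnd
  rw [dif_pos h]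

omit [IsDomain R] [IsNoetherianRing R] [IsLocalRing R] [IsIntegrallyClosed R] in
theorem span_pair_eq {f₀ f' x : R} (hf' : f' - f₀ ∈ Ideal.span {x}) :
    Ideal.span {f', x} = Ideal.span {f₀, x} := by
  have hx1 : Ideal.span {x} ≤ Ideal.span {f₀, x} :=
    Ideal.span_mono (Set.singleton_subset_iff.mpr (Set.mem_insert_of_mem _ rfl))
  have hx2 : Ideal.span {x} ≤ Ideal.span {f', x} :=
    Ideal.span_mono (Set.singleton_subset_iff.mpr (Set.mem_insert_of_mem _ rfl))
  apply le_antisymm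
  · rw [Ideal.span_le]
    intro a ha
    rcases ha with rfl | rfl
    · have h1 : f₀ ∈ Ideal.span {f₀, x} := Ideal.subset_span (Set.mem_insert _ _)
      have := (Ideal.span {f₀, x}).add_mem h1 (hx1 hf')
      rwa [add_sub_cancel] at this
    · exact Ideal.subset_span (Set.mem_insert_of_mem _ rfl)
  · rw [Ideal.span_le]
    intro a ha
    rcases ha with rfl | rfl
    · have h1 : f' ∈ Ideal.span {f', x} := Ideal.subset_span (Set.mem_insert _ _)
      have := (Ideal.span {f', x}).sub_mem h1 (hx2 hf')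
      rwa [sub_sub_cancel] at this
    · exact Ideal.subset_span (Set.mem_insert_of_mem _ rfl)

theorem ncard_le (hc : CAlg.IsCatenary R) {f₀ x : R} (hf₀ : f₀ ≠ 0)
    (hf₀m : f₀ ∈ maximalIdeal R) (hxm : x ∈ maximalIdeal R)
    (hx : ∀ p ∈ (Ideal.span {f₀}).minimalPrimes, x ∉ p) {f' : R}
    (hf' : f' - f₀ ∈ Ideal.span {x}) :
    (Ideal.span {f'}).minimalPrimes.ncard ≤
      ∑ 𝔓 ∈ (Ideal.finite_minimalPrimes_of_isNoetherianRing R (Ideal.span {f₀, x})).toFinset,
        bnd (Ideal.span {f₀, x}) 𝔓 := by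
  classical
  obtain ⟨hf'0, hx'⟩ := invariant hf₀ hf₀m hxm hx hf'
  have hfin' := Ideal.finite_minimalPrimes_of_isNoetherianRing R (Ideal.span {f'})
  have hspan := span_pair_eq hf'
  rw [Set.ncard_eq_toFinset_card _ hfin']
  have hcover : hfin'.toFinset ⊆
      (Ideal.finite_minimalPrimes_of_isNoetherianRing R (Ideal.span {f₀, x})).toFinset.biUnion
        (fun 𝔓 => hfin'.toFinset.filter (· ≤ 𝔓)) := by
    intro q hq
    have hqm : q ∈ (Ideal.span {f'}).minimalPrimes := hfin'.mem_toFinset.mp hq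
    haveI := hqm.1.1
    have hne : q ⊔ Ideal.span {x} ≠ ⊤ := by
      intro htop
      have hle : q ⊔ Ideal.span {x} ≤ maximalIdeal R :=
        sup_le (le_maximalIdeal hqm.1.1.ne_top)
          (by rwa [Ideal.span_le, Set.singleton_subset_iff])
      rw [htop] at hle
      exact (maximalIdeal.isMaximal R).ne_top (top_le_iff.mp hle)
    obtain ⟨⟨𝔓, h𝔓⟩⟩ := Ideal.nonempty_minimalPrimes hne
    have h𝔓min := minimal_sup_mem_minimal hc hf'0 hx' hqm h𝔓
    rw [hspan] at h𝔓min
    rw [Finset.mem_biUnion]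
    refine ⟨𝔓, (Set.Finite.mem_toFinset _).mpr h𝔓min, ?_⟩
    rw [Finset.mem_filter]
    exact ⟨hq, le_sup_left.trans h𝔓.1.2⟩
  refine (Finset.card_le_card hcover).trans (Finset.card_biUnion_le.trans ?_)
  apply Finset.sum_le_sum
  intro 𝔓 h𝔓W
  have h𝔓min : 𝔓 ∈ (Ideal.span {f₀, x}).minimalPrimes := (Set.Finite.mem_toFinset _).mp h𝔓W
  haveI := h𝔓min.1.1
  rw [bnd_eq]
  have hx𝔓 : x ∈ 𝔓 := h𝔓min.1.2 (Ideal.subset_span (Set.mem_insert_of_mem _ rfl))
  have hC := card_le_coheight_loc 𝔓 x hx𝔓 (hfin'.toFinset.filter (· ≤ 𝔓)) ?_ ?_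
    (Ideal.span {f₀, x}) ?_
  · have hnt := coheight_ne_top (Ideal.span {f₀, x}) 𝔓 h𝔓min
    have h1 := ENat.toNat_le_toNat hC hnt
    simpa using h1
  · intro q hq
    rw [Finset.mem_filter] at hq
    have hqm := hfin'.mem_toFinset.mp hq.1
    exact ⟨hqm.1.1, hq.2, hx' q hqm⟩
  · intro q hq q' hq' hle
    rw [Finset.mem_filter] at hq hq'
    have hqm := hfin'.mem_toFinset.mp hq.1
    have hqm' := hfin'.mem_toFinset.mp hq'.1
    exact (isDvrPrime_of_minimal hf'0 hqm').eq_of_le hqm.1.1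
      (ne_bot_of_mem hf'0 (hqm.1.2 (Ideal.mem_span_singleton_self f'))) hle
  · rw [← hspan, Ideal.span_le]
    intro a ha
    rcases ha with rfl | rfl
    · apply Ideal.mem_sup_left
      rw [Submodule.mem_finsetInf]
      intro q hq
      rw [Finset.mem_filter] at hq
      exact (hfin'.mem_toFinset.mp hq.1).1.2 (Ideal.mem_span_singleton_self _)
    · exact Ideal.mem_sup_right (Ideal.mem_span_singleton_self _)

theorem main (hc : CAlg.IsCatenary R) (J : Ideal R) (hJ : J.IsRadical) (hJ0 : J ≠ ⊥) :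
    ∃ f ∈ J, f ≠ 0 ∧ IsReduced (R ⧸ Ideal.span {f}) := by
  by_cases hJt : J = ⊤
  · refine ⟨1, by rw [hJt]; exact Submodule.mem_top, one_ne_zero, ?_⟩
    apply isReduced_of_val_le_one one_ne_zero
    intro P hP
    exact absurd (hP.1.2 (Ideal.mem_span_singleton_self 1))
      (fun h => hP.1.1.ne_top ((Ideal.eq_top_iff_one P).mpr h))
  obtain ⟨f₀, hf₀J, hf₀⟩ := Submodule.exists_mem_ne_zero_of_ne_bot hJ0
  have hJm : J ≤ maximalIdeal R := le_maximalIdeal hJt
  have hf₀m := hJm hf₀J
  have hradle : ∀ f ∈ J, ∀ g : R, (∀ p ∈ (Ideal.span {f}).minimalPrimes, g ∈ p) → g ∈ J := by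
    intro f hf g hg
    have h1 : g ∈ (Ideal.span {f}).radical := by
      rw [← Ideal.sInf_minimalPrimes, Submodule.mem_sInf]
      exact hg
    have h2 : (Ideal.span {f}).radical ≤ J := by
      rw [← hJ.radical]
      exact Ideal.radical_mono (by rwa [Ideal.span_le, Set.singleton_subset_iff])
    exact h2 h1
  by_cases hm : maximalIdeal R ∈ (Ideal.span {f₀}).minimalPrimes
  · have hmd := isDvrPrime_of_minimal hf₀ hm
    obtain ⟨a, ham, hva⟩ := exists_val_one hmd
    have haJ : a ∈ J := by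
      apply hradle f₀ hf₀J a
      intro p hp
      have hp0 := ne_bot_of_mem hf₀ (hp.1.2 (Ideal.mem_span_singleton_self f₀))
      have heq := hmd.eq_of_le hp.1.1 hp0 (le_maximalIdeal hp.1.1.ne_top)
      rw [heq]
      exact ham
    have ha0 : a ≠ 0 := by
      intro h0
      rw [h0, (val_eq_top hmd).mpr rfl] at hva
      exact absurd hva (by simp)
    refine ⟨a, haJ, ha0, isReduced_of_val_le_one ha0 (fun P hP => ?_)⟩
    have hP0 := ne_bot_of_mem ha0 (hP.1.2 (Ideal.mem_span_singleton_self a))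
    have heq := hmd.eq_of_le hP.1.1 hP0 (le_maximalIdeal hP.1.1.ne_top)
    rw [heq, hva]
  · have hfin := Ideal.finite_minimalPrimes_of_isNoetherianRing R (Ideal.span {f₀})
    obtain ⟨x, hxm, hx⟩ : ∃ x ∈ maximalIdeal R,
        ∀ p ∈ (Ideal.span {f₀}).minimalPrimes, x ∉ p := by
      by_contra hcon
      push Not at hcon
      have hsub : ((maximalIdeal R : Ideal R) : Set R) ⊆
          ⋃ i ∈ (↑hfin.toFinset : Set (Ideal R)), ((id i : Ideal R) : Set R) := by
        intro y hy
        obtain ⟨p, hp, hyp⟩ := hcon y hy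
        exact Set.mem_biUnion (Finset.mem_coe.mpr (hfin.mem_toFinset.mpr hp)) hyp
      obtain ⟨p, hp, hmp⟩ := (Ideal.subset_union_prime (f := id) (⊥ : Ideal R) ⊥
        (fun p hp _ _ => (hfin.mem_toFinset.mp hp).1.1)).mp hsub
      have hpm := hfin.mem_toFinset.mp hp
      have heq : p = maximalIdeal R := le_antisymm (le_maximalIdeal hpm.1.1.ne_top) hmp
      exact hm (heq ▸ hpm)
    obtain ⟨Nb, hNb⟩ : ∃ Nb : ℕ, Nb =
        ∑ 𝔓 ∈ (Ideal.finite_minimalPrimes_of_isNoetherianRing R (Ideal.span {f₀, x})).toFinset,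
          bnd (Ideal.span {f₀, x}) 𝔓 := ⟨_, rfl⟩
    have hbound : ∀ f', f' - f₀ ∈ Ideal.span {x} →
        (Ideal.span {f'}).minimalPrimes.ncard ≤ Nb := by
      intro f' hf'
      rw [hNb]
      exact ncard_le hc hf₀ hf₀m hxm hx hf'
    have key : ∀ k : ℕ, ∀ f', f' ∈ J → f' - f₀ ∈ Ideal.span {x} →
        Nb - (Ideal.span {f'}).minimalPrimes.ncard = k →
        ∃ f ∈ J, f ≠ 0 ∧ IsReduced (R ⧸ Ideal.span {f}) := by
      intro k
      refine Nat.strong_induction_on k ?_
      intro k ih f' hf'J hf' hk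
      obtain ⟨hf'0, hx'⟩ := invariant hf₀ hf₀m hxm hx hf'
      by_cases hred : ∀ P ∈ (Ideal.span {f'}).minimalPrimes, val P f' ≤ 1
      · exact ⟨f', hf'J, hf'0, isReduced_of_val_le_one hf'0 hred⟩
      · push Not at hred
        obtain ⟨q, hq, hq1⟩ := hred
        have hq2 : 2 ≤ val q f' := by
          have h := Order.add_one_le_of_lt hq1
          rwa [one_add_one_eq_two] at h
        obtain ⟨g, hgmem, hss⟩ := step hf'0 hxm hx' hq hq2
        have hgJ : g ∈ J := hradle f' hf'J g hgmem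
        have hf''J : f' + x * g ∈ J := J.add_mem hf'J (J.mul_mem_left x hgJ)
        have hf'' : f' + x * g - f₀ ∈ Ideal.span {x} := by
          have h : f' + x * g - f₀ = (f' - f₀) + x * g := by ring
          rw [h]
          exact (Ideal.span {x}).add_mem hf'
            (Ideal.mul_mem_right _ _ (Ideal.mem_span_singleton_self x))
        have hlt := Set.ncard_lt_ncard hss
          (Ideal.finite_minimalPrimes_of_isNoetherianRing R _)
        have hb1 := hbound f' hf'
        have hb2 := hbound _ hf''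
        exact ih (Nb - (Ideal.span {f' + x * g}).minimalPrimes.ncard) (by omega) _ hf''J hf'' rfl
    exact key _ f₀ hf₀J (by rw [sub_self]; exact zero_mem _) rfl

end Groth.Agent.Helper6.PrinRad
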